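import Mathlib
import Groth.Agent.H9Hens.BranchSum
import Groth.Agent.H9Hens.BranchUnibranch
import Groth.Agent.H06EGA14.UnibranchEquiv
import Groth.Agent.S2715

/-!
Geometric branches of local rings and extension of the base field.
-/

set_option autoImplicit false
set_option maxHeartbeats 1000000
universe u

open IsLocalRing TensorProduct Groth.Agent

namespace Groth.Agent.H06BranchBC

variable {k K R A B : Type u} [Field k] [Field K] [Algebra k K] [CommRing R] [Algebra k R]
  (p : Ideal R) [p.IsPrime] [CommRing A] [Algebra R A] [IsLocalization.AtPrime A p]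
  (Q : Ideal (R ⊗[k] K)) [Q.IsPrime] (hQ : Q.comap (algebraMap R (R ⊗[k] K)) = p)
  [CommRing B] [Algebra (R ⊗[k] K) B] [IsLocalization.AtPrime B Q]

include hQ in
/-- The fibre of a localisation of `R ⊗ K` over a geometrically unibranch quotient of a localisation
of `R` is geometrically unibranch. -/
theorem isGeomUnibranch_quotient (P : Ideal A) (hP : P.IsPrime) [IsLocalRing (A ⧸ P)]
    (h : CAlg2.IsGeomUnibranch (A ⧸ P)) :
    ∃ (_ : IsLocalRing (B ⧸ ((P.comap (algebraMap R A)).map
        ((algebraMap (R ⊗[k] K) B).comp (algebraMap R (R ⊗[k] K)))))),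
      CAlg2.IsGeomUnibranch (B ⧸ ((P.comap (algebraMap R A)).map
        ((algebraMap (R ⊗[k] K) B).comp (algebraMap R (R ⊗[k] K))))) := by
  set J := (P.comap (algebraMap R A)).map
    ((algebraMap (R ⊗[k] K) B).comp (algebraMap R (R ⊗[k] K))) with hJ
  haveI : IsLocalRing A := IsLocalization.AtPrime.isLocalRing A p
  let f : R →+* A ⧸ P := (Ideal.Quotient.mk P).comp (algebraMap R A)
  letI : Algebra k (A ⧸ P) := (f.comp (algebraMap k R)).toAlgebra
  let fA : R →ₐ[k] A ⧸ P := { f with commutes' := fun _ => rfl }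
  let φ : R ⊗[k] K →ₐ[k] (A ⧸ P) ⊗[k] K := Algebra.TensorProduct.map fA (AlgHom.id k K)
  have hle : P.comap (algebraMap R A) ≤ p := by
    refine le_trans (Ideal.comap_mono (le_maximalIdeal hP.ne_top)) (le_of_eq ?_)
    exact IsLocalization.AtPrime.comap_maximalIdeal A p
  have hker : ∀ r, φ r = 0 → r ∈ (P.comap (algebraMap R A)).map (algebraMap R (R ⊗[k] K)) := by
    intro r hr
    let D := R ⧸ P.comap (algebraMap R A)
    let q₁ : R →ₐ[k] D := Ideal.Quotient.mkₐ k _
    let ι : D →ₐ[k] A ⧸ P :=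
      Ideal.Quotient.liftₐ _ fA fun x hx => Ideal.Quotient.eq_zero_iff_mem.mpr hx
    have hι : Function.Injective ι := (injective_iff_map_eq_zero _).mpr fun x hx => by
      obtain ⟨x, rfl⟩ := Ideal.Quotient.mk_surjective x
      exact Ideal.Quotient.eq_zero_iff_mem.mpr (Ideal.Quotient.eq_zero_iff_mem.mp hx :)
    have hinj : Function.Injective (Algebra.TensorProduct.map ι (AlgHom.id k K)) :=
      Module.Flat.rTensor_preserves_injective_linearMap (M := K) ι.toLinearMap hι
    have hc : (Algebra.TensorProduct.map ι (AlgHom.id k K)).comp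
        (Algebra.TensorProduct.map q₁ (AlgHom.id k K)) = φ := by
      ext <;> simp [φ, q₁, ι, fA] <;> rfl
    have h0 : Algebra.TensorProduct.map q₁ (AlgHom.id k K) r = 0 := hinj (by
      rw [map_zero, ← AlgHom.comp_apply, hc, hr])
    have h1 : r ∈ RingHom.ker (Algebra.TensorProduct.map q₁ (AlgHom.id k K)) := h0
    rw [Algebra.TensorProduct.rTensor_ker q₁ (Ideal.Quotient.mkₐ_surjective k _),
      show RingHom.ker q₁ = P.comap (algebraMap R A) from Ideal.Quotient.mkₐ_ker k _] at h1
    exact h1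
  have hs : ∀ c, ∃ s, s ∉ p ∧ ∃ r, φ (s ⊗ₜ 1) * c = φ r := by
    intro c
    induction c using TensorProduct.induction_on with
    | zero => exact ⟨1, fun h => ‹p.IsPrime›.ne_top ((Ideal.eq_top_iff_one p).mpr h), 0, by simp⟩
    | tmul a x =>
      obtain ⟨a, rfl⟩ := Ideal.Quotient.mk_surjective a
      obtain ⟨⟨r, s⟩, hrs⟩ := IsLocalization.surj p.primeCompl a
      refine ⟨s, s.2, r ⊗ₜ x, ?_⟩
      simp only [φ, Algebra.TensorProduct.map_tmul, map_one, Algebra.TensorProduct.tmul_mul_tmul,
        one_mul, AlgHom.coe_id, id_eq]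
      congr 1
      show Ideal.Quotient.mk P (algebraMap R A s) * _ = Ideal.Quotient.mk P (algebraMap R A r)
      rw [← map_mul, mul_comm, hrs]
    | add a b ha hb =>
      obtain ⟨s, hsp, r, hr⟩ := ha
      obtain ⟨t, htp, r', hr'⟩ := hb
      refine ⟨s * t, fun h => (‹p.IsPrime›.mem_or_mem h).elim hsp htp,
        r * (t ⊗ₜ 1) + r' * (s ⊗ₜ 1), ?_⟩
      rw [show (s * t) ⊗ₜ[k] (1 : K) = (s ⊗ₜ 1) * (t ⊗ₜ 1) by simp, map_add, map_mul, map_mul,
        map_mul, ← hr, ← hr']
      ring
  let L := Q.ResidueField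
  let ρ : R ⊗[k] K →+* L := algebraMap _ _
  have hρ : ∀ r, ρ r = 0 ↔ r ∈ Q := fun r => Ideal.algebraMap_residueField_eq_zero
  let ρR : R →+* L := ρ.comp (algebraMap R (R ⊗[k] K))
  have hρR : ∀ x : R, ρR x = 0 ↔ x ∈ p := fun x => by rw [← hQ]; exact hρ _
  have hu : ∀ y : p.primeCompl, IsUnit (ρR y) := fun y => Ne.isUnit fun h => y.2 ((hρR _).mp h)
  let gA : A →+* L := IsLocalization.lift hu
  have hgA : ∀ a ∈ maximalIdeal A, gA a = 0 := by
    intro a ha
    obtain ⟨r, s, rfl⟩ := IsLocalization.exists_mk'_eq p.primeCompl a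
    rw [IsLocalization.lift_mk'_spec, mul_zero]
    exact (hρR r).mpr ((IsLocalization.AtPrime.mk'_mem_maximal_iff A p r s).mp ha)
  let g : A ⧸ P →+* L := Ideal.Quotient.lift P gA fun a ha => hgA a (le_maximalIdeal hP.ne_top ha)
  have hg : ∀ x, g (f x) = ρR x := fun x => IsLocalization.lift_eq hu x
  let gk : A ⧸ P →ₐ[k] L := { g with commutes' := fun a => by
                                      show g (f (algebraMap k R a)) = _
                                      rw [hg]
                                      show ρ (algebraMap R (R ⊗[k] K) (algebraMap k R a)) = _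
                                      rw [← IsScalarTower.algebraMap_apply k R,
                                        ← IsScalarTower.algebraMap_apply k (R ⊗[k] K) L] }
  let ρK : K →ₐ[k] L :=
    { ρ.comp Algebra.TensorProduct.includeRight.toRingHom with
      commutes' := fun a => (congrArg ρ (Algebra.TensorProduct.includeRight.commutes a)).trans
        (IsScalarTower.algebraMap_apply k (R ⊗[k] K) L a).symm }
  let G : (A ⧸ P) ⊗[k] K →ₐ[k] L := Algebra.TensorProduct.lift gk ρK fun _ _ => Commute.all _ _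
  have hG : ∀ r, G (φ r) = ρ r := by
    intro r
    induction r using TensorProduct.induction_on with
    | zero => simp
    | tmul x y =>
      show G (Algebra.TensorProduct.map fA (AlgHom.id k K) (x ⊗ₜ y)) = _
      rw [Algebra.TensorProduct.map_tmul]
      erw [Algebra.TensorProduct.lift_tmul]
      show g (f x) * ρ (1 ⊗ₜ y) = ρ (x ⊗ₜ y)
      rw [hg, show ρR x = ρ (x ⊗ₜ 1) from rfl, ← map_mul]
      simp
    | add a b ha hb => rw [map_add, map_add, map_add, ha, hb]
  let q : Ideal ((A ⧸ P) ⊗[k] K) := RingHom.ker G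
  haveI : q.IsPrime := RingHom.ker_isPrime _
  have hqQ : ∀ r, φ r ∈ q ↔ r ∈ Q := fun r => by
    show G (φ r) = 0 ↔ r ∈ Q
    rw [hG, hρ]
  have hqc : q.comap (algebraMap (A ⧸ P) ((A ⧸ P) ⊗[k] K)) = maximalIdeal (A ⧸ P) := by
    refine le_antisymm (le_maximalIdeal (Ideal.IsPrime.comap _).ne_top) fun a ha => ?_
    obtain ⟨a, rfl⟩ := Ideal.Quotient.mk_surjective a
    have ha' : a ∈ maximalIdeal A := by
      rw [IsLocalRing.mem_maximalIdeal] at ha ⊢
      exact fun h => ha (h.map (Ideal.Quotient.mk P))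
    show G (Ideal.Quotient.mk P a ⊗ₜ 1) = 0
    erw [Algebra.TensorProduct.lift_tmul]
    show g (Ideal.Quotient.mk P a) * ρK 1 = 0
    rw [Ideal.Quotient.lift_mk, hgA a ha', zero_mul]
  have hC : CAlg2.IsGeomUnibranch (Localization.AtPrime q) :=
    (Groth.Agent.S2715.result k (A ⧸ P) K q hqc).mp h
  have hunit : ∀ r : Q.primeCompl,
      IsUnit ((algebraMap _ (Localization.AtPrime q)).comp φ.toRingHom r) := fun r =>
    IsLocalization.map_units (M := q.primeCompl) _ ⟨φ r, fun h => r.2 ((hqQ _).mp h)⟩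
  let θ : B →+* Localization.AtPrime q := IsLocalization.lift hunit
  have hθ : ∀ r, θ (algebraMap _ B r) = algebraMap _ (Localization.AtPrime q) (φ r) :=
    fun r => IsLocalization.lift_eq hunit r
  have hθs : Function.Surjective θ := by
    intro z
    obtain ⟨c, t, rfl⟩ := IsLocalization.exists_mk'_eq q.primeCompl z
    obtain ⟨s, hsp, r, hr⟩ := hs c
    obtain ⟨s', hsp', r', hr'⟩ := hs t
    have hnQ : ∀ x, x ∉ p → x ⊗ₜ[k] (1 : K) ∉ Q := fun x hx hxQ => hx (by rw [← hQ]; exact hxQ)
    have hr'Q : r' ∉ Q := fun hmem => by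
      have h0 := (hqQ _).mpr hmem
      rw [← hr'] at h0
      rcases ‹q.IsPrime›.mem_or_mem h0 with h' | h'
      · exact hnQ s' hsp' ((hqQ _).mp h')
      · exact t.2 h'
    refine ⟨IsLocalization.mk' B (r * (s' ⊗ₜ 1))
      (⟨r' * (s ⊗ₜ 1), fun h' => (‹Q.IsPrime›.mem_or_mem h').elim hr'Q (hnQ s hsp)⟩ : Q.primeCompl), ?_⟩
    rw [IsLocalization.lift_mk'_spec]
    simp only [RingHom.comp_apply, AlgHom.toRingHom_eq_coe, RingHom.coe_coe]
    rw [map_mul φ, map_mul φ, ← hr, ← hr']
    rw [show φ (s' ⊗ₜ 1) * ↑t * φ (s ⊗ₜ 1) = (↑t : (A ⧸ P) ⊗[k] K) * (φ (s ⊗ₜ 1) * φ (s' ⊗ₜ 1)) by ring,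
      show φ (s ⊗ₜ 1) * c * φ (s' ⊗ₜ 1) = c * (φ (s ⊗ₜ 1) * φ (s' ⊗ₜ 1)) by ring,
      map_mul, map_mul, map_mul]
    simp only [map_mul]
    rw [← IsLocalization.mk'_spec' (Localization.AtPrime q) c t]
    ring
  have hθk : RingHom.ker θ = J := by
    refine le_antisymm (fun b hb => ?_) ?_
    · obtain ⟨r, t, rfl⟩ := IsLocalization.exists_mk'_eq Q.primeCompl b
      rw [RingHom.mem_ker, IsLocalization.lift_mk'_spec, mul_zero] at hb
      obtain ⟨⟨c, hcq⟩, hc⟩ := (IsLocalization.map_eq_zero_iff q.primeCompl _ _).mp hb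
      obtain ⟨s, hsp, r'', hr''⟩ := hs c
      have hr''Q : r'' ∉ Q := fun hmem => by
        have h0 := (hqQ _).mpr hmem
        rw [← hr''] at h0
        rcases ‹q.IsPrime›.mem_or_mem h0 with h' | h'
        · exact hsp (by rw [← hQ]; exact (hqQ _).mp h')
        · exact hcq h'
      have h0 : φ (r'' * r) = 0 := by
        rw [map_mul, ← hr'', mul_assoc]
        exact mul_eq_zero_of_right _ hc
      have h1 := Ideal.mem_map_of_mem (algebraMap _ B) (hker _ h0)
      rw [Ideal.map_map, ← hJ, map_mul] at h1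
      rw [← IsLocalization.mk'_spec' B r t] at h1
      have hu1 := IsLocalization.map_units B (⟨r'', hr''Q⟩ : Q.primeCompl)
      have hu2 := IsLocalization.map_units B t
      rw [Ideal.unit_mul_mem_iff_mem _ hu1, Ideal.unit_mul_mem_iff_mem _ hu2] at h1
      exact h1
    · rw [hJ, Ideal.map_le_iff_le_comap]
      intro x hx
      show θ (algebraMap _ B (x ⊗ₜ 1)) = 0
      rw [hθ]
      have : fA x = 0 := Ideal.Quotient.eq_zero_iff_mem.mpr hx
      simp [φ, this]
  let e : B ⧸ J ≃+* Localization.AtPrime q :=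
    (Ideal.quotEquivOfEq hθk.symm).trans (RingHom.quotientKerEquivOfSurjective hθs)
  haveI : IsLocalRing (B ⧸ J) := e.symm.isLocalRing
  exact ⟨inferInstance, H06EGA14.isGeomUnibranch_of_ringEquiv e.symm hC⟩

omit [IsLocalization.AtPrime B Q] in
/-- A geometrically unibranch quotient leaves one minimal prime in a strict henselization. -/
theorem card_minimalPrimes_quotient [IsLocalRing B] (H : Type u) [CommRing H] [IsLocalRing H]
    [Algebra B H] [IsLocalHom (algebraMap B H)] [Hensel.IsStrictHenselization B H] (J : Ideal B)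
    [IsLocalRing (B ⧸ J)] (hgu : CAlg2.IsGeomUnibranch (B ⧸ J)) :
    ENat.card (minimalPrimes (H ⧸ J.map (algebraMap B H))) = 1 := by
  have hne : J ≠ ⊤ := Ideal.Quotient.nontrivial_iff.mp inferInstance
  haveI : IsLocalRing (H ⧸ J.map (algebraMap B H)) := H9Hens.isLocalRing_quotient
    (ne_top_of_le_ne_top (maximalIdeal.isMaximal H).ne_top (H9Hens.map_le_maximalIdeal J hne))
  haveI := H9Hens.isLocalHom_quotient (S := H) J
  haveI := H9Hens.isStrictHenselization_quotient (S := H) J
  rw [H9Hens.card_minimalPrimes_strictHenselization (B ⧸ J)]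
  exact (H9Hens.numGeomBranches_eq_one_iff _).mpr hgu

include hQ in
/-- If all branches of `A` are geometrically unibranch then a local ring of `R ⊗ K` over `A` has as
many geometric branches as `A` has minimal primes. -/
theorem numGeomBranches_eq_encard [IsLocalRing A] [IsLocalRing B] (hfin : (minimalPrimes A).Finite)
    (h : ∀ P : minimalPrimes A,
      haveI : P.1.IsPrime := P.2.1.1
      Brnch.numGeomBranches (A ⧸ P.1) = 1) :
    Brnch.numGeomBranches B = (minimalPrimes A).encard := by
  let ψ : R →+* B := (algebraMap (R ⊗[k] K) B).comp (algebraMap R (R ⊗[k] K))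
  letI : Algebra R B := ψ.toAlgebra
  haveI : IsScalarTower R (R ⊗[k] K) B := IsScalarTower.of_algebraMap_eq fun _ => rfl
  have hu : ∀ y : p.primeCompl, IsUnit (ψ y) := fun y =>
    IsLocalization.map_units (M := Q.primeCompl) B
      ⟨algebraMap R _ y, fun hm => y.2 ((SetLike.ext_iff.mp hQ _).mp hm)⟩
  letI : Algebra A B := (IsLocalization.lift hu).toAlgebra
  haveI : IsScalarTower R A B :=
    IsScalarTower.of_algebraMap_eq fun x => (IsLocalization.lift_eq hu x).symm
  haveI : Module.Flat (R ⊗[k] K) B := IsLocalization.flat B Q.primeCompl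
  haveI : Module.Flat R B := Module.Flat.trans R (R ⊗[k] K) B
  haveI : Module.Flat A B := (Module.flat_iff_of_isLocalization A p.primeCompl B).mpr inferInstance
  obtain ⟨κ, _, _, _, _, _, H, _, _, _, _, π, hπ, hH⟩ := H9Hens.exists_isStrictHenselization_colim B
  haveI := hπ.flat
  letI : Algebra A H := ((algebraMap B H).comp (algebraMap A B)).toAlgebra
  haveI : IsScalarTower A B H := IsScalarTower.of_algebraMap_eq fun _ => rfl
  haveI : Module.Flat A H := Module.Flat.trans A B H
  haveI := hfin.to_subtype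
  letI := Fintype.ofFinite (minimalPrimes A)
  obtain ⟨e⟩ := H9Hens.nonempty_minimalPrimes_equiv_sigma A H
  rw [← H9Hens.card_minimalPrimes_strictHenselization B H, ENat.card_congr e, H9Hens.enatCard_sigma,
    Finset.sum_congr rfl (g := fun _ => (1 : ℕ∞)) (fun P _ => ?_), Finset.sum_const, nsmul_one,
    Finset.card_univ, ← ENat.card_eq_coe_fintype_card, ENat.card_coe_set_eq]
  haveI := P.2.1.1
  haveI : IsLocalRing (A ⧸ P.1) := H9Hens.isLocalRing_quotient (Ideal.IsPrime.ne_top ‹_›)
  obtain ⟨hloc, hgu⟩ := isGeomUnibranch_quotient p Q hQ (B := B) P.1 P.2.1.1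
    ((H9Hens.numGeomBranches_eq_one_iff _).mp (h P))
  have hmap : (P.1.comap (algebraMap R A)).map ψ = P.1.map (algebraMap A B) := by
    conv_rhs => rw [← IsLocalization.map_comap p.primeCompl A P.1, Ideal.map_map]
    rw [← IsScalarTower.algebraMap_eq R A B]
    rfl
  rw [show P.1.map (algebraMap A H) = ((P.1.comap (algebraMap R A)).map ψ).map (algebraMap B H) by
    rw [hmap, Ideal.map_map, ← IsScalarTower.algebraMap_eq]]
  exact card_minimalPrimes_quotient H _ hgu

end Groth.Agent.H06BranchBC
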